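import Groth.Agent.SyzLib.Basic
import Groth.Agent.DCohLib.Pullback
import Groth.Agent.S1688
import Groth.Agent.QCohLib.Coherent
import Groth.Agent.DCohLib.PerfCoh
import Groth.Agent.ProjCoh.PSData
import Groth.Prelude

/-!
# Syzygy sheaves over regular schemes
-/

set_option autoImplicit false
set_option backward.isDefEq.respectTransparency false
set_option linter.style.haveILetI false

universe u

open CategoryTheory CategoryTheory.Limits AlgebraicGeometry
open Groth.Agent.DCohLib Groth.Agent.PullbackMod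

attribute [local instance] HasDerivedCategory.standard

noncomputable section

namespace Groth.Agent.SyzLib

variable {X : Scheme.{u}}

/-- Stalks of an exact sequence are exact. -/
theorem exact_stalkLin' (S : ShortComplex X.Modules) (hS : S.Exact) (x : X) :
    Function.Exact (stalkLin S.f x) (stalkLin S.g x) := by
  let p := Abelian.factorThruImage S.g
  have hp : p ≫ Abelian.image.ι S.g = S.g := Abelian.image.fac S.g
  let S' := ShortComplex.mk S.f p ((cancel_mono (Abelian.image.ι S.g)).1 (by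
    rw [Category.assoc, hp, S.zero, zero_comp]))
  let φ : S' ⟶ S := ⟨𝟙 _, 𝟙 _, Abelian.image.ι S.g, by simp [S'], by simp [S', hp]⟩
  have hS' : S'.Exact := (ShortComplex.exact_iff_of_epi_of_isIso_of_mono φ).2 hS
  haveI : Epi S'.g := inferInstanceAs (Epi p)
  have h := exact_stalkLin S' hS' x
  have hinj := (mono_iff_stalk (Abelian.image.ι S.g)).1 inferInstance x
  have hg : stalkLin S.g x = stalkLin (Abelian.image.ι S.g) x ∘ₗ stalkLin p x := by
    rw [← stalkLin_comp, hp]
  intro z
  rw [hg, LinearMap.comp_apply]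
  exact ⟨fun hz => (h z).1 (hinj (hz.trans (map_zero _).symm)), fun hz => by
    rw [show stalkLin p x z = 0 from (h z).2 hz, map_zero]⟩

/-- An `m`-th syzygy of coherent sheaves on a regular Noetherian scheme of dimension `≤ m` is locally free. -/
theorem isFinLocFree_syzygy [IsNoetherian X]
    (hreg : ∀ x : X, IsRegularLocalRing (X.presheaf.stalk x)) (m : ℕ)
    (hdim : topologicalKrullDim ↥X ≤ (m : WithBot ℕ∞))
    (S : ComposableArrows X.Modules (m + 1)) (hS : S.Exact)
    (hmono : Mono (S.map' 0 1 (Nat.zero_le 1) (Nat.le_add_left 1 m)))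
    (hepi : Epi (S.map' m (m + 1) (Nat.le_succ m) (le_refl (m + 1))))
    (hE : ∀ i : Fin m, FlatMod.IsFinLocFree (S.obj ⟨i.1 + 1, Nat.succ_lt_succ (Nat.lt_succ_of_lt i.2)⟩))
    (hF : Coh.IsCoh (S.obj (Fin.last (m + 1)))) :
    FlatMod.IsFinLocFree (S.obj 0) := by
  have hcoh : ∀ a : Fin (m + 1 + 1), 1 ≤ a.1 → Coh.IsCoh (S.obj a) := by
    rintro ⟨a, ha⟩ h1
    rcases Nat.lt_or_ge a (m + 1) with h | h
    · obtain ⟨b, rfl⟩ := Nat.exists_eq_add_of_le' h1
      exact Groth.Agent.DCohLib.isCoh_of_isFinLocFree (hE ⟨b, by omega⟩)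
    · obtain rfl : a = m + 1 := by omega
      exact hF
  have hG : Coh.IsCoh (S.obj 0) := by
    rcases Nat.eq_zero_or_pos m with rfl | hm
    · haveI : Mono (S.map' 0 1) := hmono
      haveI : Epi (S.map' 0 1) := hepi
      haveI : IsIso (S.map' 0 1) := isIso_of_mono_of_epi _
      exact Groth.Agent.ProjCoh.isCoh_of_iso (asIso (S.map' 0 1 (Nat.zero_le 1) (Nat.le_refl 1))).symm hF
    · let T := S.sc' hS.toIsComplex 0 1 2 (by omega) (by omega) (by omega)
      have hT : T.Exact := hS.exact 0 (by omega)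
      haveI : Mono T.f := hmono
      exact Groth.Agent.ProjCoh.isCoh_of_iso
        ((kernelIsKernel T.g).conePointUniqueUpToIso hT.fIsKernel)
        (Groth.Agent.QCohLib.isCoh_kernel_cokernel T.g (hcoh _ le_rfl) (hcoh _ (Nat.le_succ 1))).1
  refine Groth.Agent.S1688.isFinLocFree_of_free hG fun x => ?_
  haveI := hreg x
  haveI := hG.1
  haveI := Groth.Agent.PullbackMod.finite_stalk_of_isFT hG.2 x
  obtain ⟨e, he⟩ := RegLocal.exists_nat_ringKrullDim (X.presheaf.stalk x)
  have hem : e ≤ m := by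
    have h := (Groth.Agent.S1688.dim_le x).trans hdim
    rw [he] at h
    exact_mod_cast h
  have hgl : ∀ M : ModuleCat.{u} (X.presheaf.stalk x), HasProjectiveDimensionLT M (m + 1) := fun M =>
    haveI := RegLocal.hasProjectiveDimensionLT (X.presheaf.stalk x) e he M
    hasProjectiveDimensionLT_of_ge _ (e + 1) _ (by omega)
  let c : ℕ → Fin (m + 1 + 1) := fun i => ⟨min i (m + 1), by omega⟩
  let d : ∀ i, S.obj (c i) ⟶ S.obj (c (i + 1)) := fun i =>
    S.map (homOfLE (show c i ≤ c (i + 1) by simp only [c, Fin.mk_le_mk]; omega))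
  have hinj : ∀ (a b : Fin (m + 1 + 1)) (hab : a ≤ b), a.1 = 0 → b.1 = 1 →
      Function.Injective (stalkLin (S.map (homOfLE hab)) x) := by
    rintro ⟨a, ha⟩ ⟨b, hb⟩ hab (rfl : a = 0) (rfl : b = 1)
    exact (mono_iff_stalk _).1 hmono x
  have hexa : ∀ (i : ℕ) (a b c' : Fin (m + 1 + 1)) (hab : a ≤ b) (hbc : b ≤ c'),
      a.1 = i → b.1 = i + 1 → c'.1 = i + 2 →
      Function.Exact (stalkLin (S.map (homOfLE hab)) x) (stalkLin (S.map (homOfLE hbc)) x) := by
    rintro i ⟨a, ha⟩ ⟨b, hb⟩ ⟨c', hc⟩ hab hbc (rfl : a = i) (rfl : b = a + 1) (rfl : c' = a + 2)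
    exact exact_stalkLin' _ (hS.exact a (by omega)) x
  haveI : ∀ i, 1 ≤ i → i ≤ m → Module.Projective (X.presheaf.stalk x) ((S.obj (c i)).presheaf.stalk x) := by
    intro i h1 h2
    have hi : FlatMod.IsFinLocFree (S.obj (c i)) := by
      have h := hE ⟨i - 1, by omega⟩
      have e : (⟨i - 1 + 1, by omega⟩ : Fin (m + 1 + 1)) = c i := Fin.ext (by simp only [c]; omega)
      rwa [e] at h
    haveI := (Groth.Agent.S1688.free_of_isFinLocFree hi x).1
    exact Module.Projective.of_free
  haveI hP : Module.Projective (X.presheaf.stalk x) ((S.obj (c 0)).presheaf.stalk x) :=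
    projective_syzygy m hgl (fun i => ((S.obj (c i)).presheaf.stalk x : Type u)) (fun i h1 h2 => this i h1 h2)
      (fun i => stalkLin (d i) x) (hinj _ _ _ (by simp [c]) (by simp [c])) fun i hi =>
      (LinearMap.exact_iff.1 (hexa i _ _ _ _ _ (by simp only [c]; omega) (by simp only [c]; omega)
        (by simp only [c]; omega))).symm
  have e0 : c 0 = 0 := Fin.ext (by simp [c])
  rw [e0] at hP
  exact Module.free_of_flat_of_isLocalRing

end Groth.Agent.SyzLib
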