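import Groth.Agent.RegLocal.GlobalDim
import Groth.Agent.RegLocal.Consequences
import Mathlib.Algebra.Category.ModuleCat.Abelian
import Mathlib.Algebra.Category.ModuleCat.Projective
import Mathlib.RingTheory.LocalRing.Module
/-!
Syzygy modules over regular local rings.
-/

set_option autoImplicit false

universe u

open CategoryTheory CategoryTheory.Limits

noncomputable section

namespace Groth.Agent.SyzLib

variable {R : Type u} [CommRing R]

theorem pd_sub {M : Type u} [AddCommGroup M] [Module R M] [Module.Projective R M] (P : Submodule R M) (n : ℕ)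
    (h : HasProjectiveDimensionLT (ModuleCat.of R (M ⧸ P)) (n + 2)) :
    HasProjectiveDimensionLT (ModuleCat.of R P) (n + 1) := by
  let S : ShortComplex (ModuleCat.{u} R) :=
    ShortComplex.mk (X₁ := ModuleCat.of R P) (X₂ := ModuleCat.of R M) (X₃ := ModuleCat.of R (M ⧸ P))
      (ModuleCat.ofHom P.subtype) (ModuleCat.ofHom P.mkQ)
      (ModuleCat.hom_ext (LinearMap.ext fun x => (Submodule.Quotient.mk_eq_zero P).2 x.2))
  have hS : S.ShortExact := by
    refine { exact := ?_, mono_f := ?_, epi_g := ?_ }
    · rw [ShortComplex.moduleCat_exact_iff]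
      exact fun x hx => ⟨⟨x, (Submodule.Quotient.mk_eq_zero P).1 hx⟩, rfl⟩
    · exact (ModuleCat.mono_iff_injective _).2 Subtype.val_injective
    · exact (ModuleCat.epi_iff_surjective _).2 (Submodule.mkQ_surjective P)
  haveI : Projective (ModuleCat.of R M) := (IsProjective.iff_projective (R := R) M).1 inferInstance
  exact hS.hasProjectiveDimensionLT_X₁ (n + 1) (hasProjectiveDimensionLT_of_ge _ 1 _ (by omega)) h

theorem pd_of_equiv {M N : Type u} [AddCommGroup M] [Module R M] [AddCommGroup N] [Module R N] (e : M ≃ₗ[R] N)
    {n : ℕ} (h : HasProjectiveDimensionLT (ModuleCat.of R M) n) : HasProjectiveDimensionLT (ModuleCat.of R N) n :=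
  hasProjectiveDimensionLT_of_iso e.toModuleIso n

/-- A `k`-th syzygy is projective when all modules have projective dimension at most `k`. -/
theorem projective_syzygy (k : ℕ) (hgl : ∀ (M : ModuleCat.{u} R), HasProjectiveDimensionLT M (k + 1))
    (M : ℕ → Type u) [∀ i, AddCommGroup (M i)] [∀ i, Module R (M i)]
    (hproj : ∀ i, 1 ≤ i → i ≤ k → Module.Projective R (M i))
    (d : ∀ i, M i →ₗ[R] M (i + 1)) (hinj : Function.Injective (d 0))
    (hex : ∀ i, i + 1 < k → LinearMap.range (d i) = LinearMap.ker (d (i + 1))) :
    Module.Projective R (M 0) := by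
  have h1 : HasProjectiveDimensionLT (ModuleCat.of R (M 0)) 1 := by
    rcases Nat.eq_zero_or_pos k with rfl | hk
    · exact hgl _
    have key : ∀ j i, i + j + 1 = k → HasProjectiveDimensionLT (ModuleCat.of R (LinearMap.range (d i))) (i + 1) := by
      intro j
      induction j with
      | zero =>
        intro i hi
        haveI := hproj (i + 1) (by omega) (by omega)
        refine pd_sub _ i ?_
        haveI := hgl (ModuleCat.of R (M (i + 1) ⧸ LinearMap.range (d i)))
        exact hasProjectiveDimensionLT_of_ge _ (k + 1) _ (by omega)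
      | succ j ih =>
        intro i hi
        haveI := hproj (i + 1) (by omega) (by omega)
        rw [hex i (by omega)]
        exact pd_sub _ i (pd_of_equiv (LinearMap.quotKerEquivRange (d (i + 1))).symm (ih (i + 1) (by omega)))
    exact pd_of_equiv (LinearEquiv.ofInjective (d 0) hinj).symm (key (k - 1) 0 (by omega))
  haveI : Projective (ModuleCat.of R (M 0)) := projective_iff_hasProjectiveDimensionLT_one.2 h1
  exact (IsProjective.iff_projective (R := R) (M 0)).2 inferInstance

theorem free_localization_syzygy (A : Type u) [CommRing A] [IsRegularLocalRing A]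
    (k : ℕ) (N : ℕ → Type u) [∀ i, AddCommGroup (N i)] [∀ i, Module A (N i)] [Module.Finite A (N 0)]
    (hfree : ∀ i, 1 ≤ i → i ≤ k → Module.Free A (N i) ∧ Module.Finite A (N i))
    (d : ∀ i, N i →ₗ[A] N (i + 1)) (hinj : Function.Injective (d 0))
    (hex : ∀ i, i + 1 < k → LinearMap.range (d i) = LinearMap.ker (d (i + 1)))
    (p : Ideal A) [p.IsPrime] (hp : p.height ≤ k) :
    Module.Free (Localization.AtPrime p) (LocalizedModule p.primeCompl (N 0)) := by
  set L := Localization.AtPrime p
  haveI := RegLocal.isRegularLocalRing_localization A p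
  obtain ⟨e, he⟩ := RegLocal.exists_nat_ringKrullDim L
  have hek : e ≤ k := by
    have h := IsLocalization.AtPrime.ringKrullDim_eq_height p L
    rw [he] at h
    have h' : (e : ℕ∞) = p.height := by exact_mod_cast h
    rw [← h'] at hp
    exact_mod_cast hp
  have hgl : ∀ (M : ModuleCat.{u} L), HasProjectiveDimensionLT M (k + 1) := fun M =>
    haveI := RegLocal.hasProjectiveDimensionLT L e he M
    hasProjectiveDimensionLT_of_ge _ (e + 1) _ (by omega)
  haveI : ∀ i, 1 ≤ i ∧ i ≤ k → Module.Free A (N i) := fun i h => (hfree i h.1 h.2).1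
  haveI hP : Module.Projective L (LocalizedModule p.primeCompl (N 0)) := by
    refine projective_syzygy (R := L) k hgl (fun i => LocalizedModule p.primeCompl (N i)) (fun i h1 h2 => ?_)
      (fun i => LocalizedModule.map p.primeCompl (d i)) ?_ fun i hi => ?_
    · haveI := (hfree i h1 h2).1
      haveI : Module.Free L (LocalizedModule p.primeCompl (N i)) :=
        Module.free_of_isLocalizedModule p.primeCompl (LocalizedModule.mkLinearMap p.primeCompl (N i))
      exact Module.Projective.of_free
    · exact LocalizedModule.map_injective _ _ hinj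
    · have h := LocalizedModule.map_exact p.primeCompl (d i) (d (i + 1)) (LinearMap.exact_iff.2 (hex i hi).symm)
      refine (LinearMap.exact_iff.1 ?_).symm
      exact h
  exact Module.free_of_flat_of_isLocalRing

end Groth.Agent.SyzLib
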